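import Groth.Agent.H52.IsolatedPt2

/-!
# helper52: fibre dimension zero and local quasi-finiteness (scheme level)
-/

universe u

open CategoryTheory CategoryTheory.Limits AlgebraicGeometry Opposite AlgSp Topology

namespace Groth.Agent.H52.FD

theorem localDim_eq_zero_of_le {T : Type*} [TopologicalSpace T] (x : T)
    (h : FlatMor.localDim T x ≤ 0) : FlatMor.localDim T x = 0 := by
  apply le_antisymm h
  have hne := Groth.Agent.H9.FibDim.localDim_ne_bot T x
  obtain ⟨a, ha⟩ := WithBot.ne_bot_iff_exists.mp hne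
  rw [← ha]
  exact WithBot.coe_le_coe.mpr zero_le

/-- At a point where a morphism locally of finite type is quasi-finite, the fibre has dimension `≤ 0`. -/
theorem fibreDimAt_le_zero_of_quasiFiniteAt {X Y : Scheme.{u}} (f : X ⟶ Y) [LocallyOfFiniteType f]
    (x : X) (h : f.QuasiFiniteAt x) : FlatMor.fibreDimAt f x ≤ 0 := by
  unfold FlatMor.fibreDimAt
  exact (Groth.Agent.H52.localDim_eq_zero_of_isOpen_singleton _
    (Scheme.Hom.quasiFiniteAt_iff_isOpen_singleton_asFiber.1 h)).le

theorem fibreDimAt_le_zero_of_lqf {X Y : Scheme.{u}} (f : X ⟶ Y) [LocallyOfFiniteType f]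
    [LocallyQuasiFinite f] (x : X) : FlatMor.fibreDimAt f x ≤ 0 :=
  fibreDimAt_le_zero_of_quasiFiniteAt f x (f.quasiFiniteAt x)

/-- A morphism locally of finite type all of whose fibres have local dimension `≤ 0` is locally quasi-finite. -/
theorem locallyQuasiFinite_of_fibreDimAt_le_zero {X Y : Scheme.{u}} (f : X ⟶ Y)
    [LocallyOfFiniteType f] (h : ∀ x, FlatMor.fibreDimAt f x ≤ 0) : LocallyQuasiFinite f := by
  rw [← Scheme.Hom.quasiFiniteLocus_eq_top_iff]
  refine eq_top_iff.2 fun x _ => ?_
  rw [Scheme.Hom.mem_quasiFiniteLocus,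
    Scheme.Hom.quasiFiniteAt_iff_isOpen_singleton_asFiber]
  have h0 : FlatMor.localDim (f.fiber (f x)) (f.asFiber x) = 0 := localDim_eq_zero_of_le _ (h x)
  obtain ⟨M, hxM, hM⟩ := Groth.Agent.H52.exists_nbhd_dim_le_zero_of_localDim_eq_zero _ h0
  haveI : LocallyOfFiniteType (f.fiberToSpecResidueField (f x)) :=
    inferInstanceAs (LocallyOfFiniteType (pullback.snd f (Y.fromSpecResidueField (f x))))
  refine Groth.Agent.H52.isOpen_singleton_of_codim_zero_nbhd (k := Y.residueField (f x))
    (f.fiberToSpecResidueField (f x)) M (fun w hw => ?_) _ hxM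
  let M' : (f.fiber (f x)).Opens := M
  let w' : M'.toScheme := (show ↥M' from ⟨w, hw⟩)
  have h1 : ringKrullDim (M'.toScheme.presheaf.stalk w') = 0 :=
    Groth.Agent.H52.ringKrullDim_stalk_eq_zero_of_topologicalKrullDim_le (X := M'.toScheme) w' hM
  rw [ringKrullDim_stalk_eq_coheight, ← coheight_eq_of_isOpenImmersion M'.ι,
    ← ringKrullDim_stalk_eq_coheight] at h1
  exact h1

set_option backward.isDefEq.respectTransparency.types false in
/-- A morphism from a quasi-compact scheme to an affine scheme is quasi-compact. -/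
theorem quasiCompact_of_compactSpace_of_isAffine {X Y : Scheme.{u}} (f : X ⟶ Y) [IsAffine Y]
    [CompactSpace ↥X] : QuasiCompact f :=
  (HasAffineProperty.iff_of_isAffine (P := @QuasiCompact) (f := f)).2 inferInstance

end Groth.Agent.H52.FD
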